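import Cfsg.Agent.H142.EP.TorRange
import Cfsg.Agent.H892.EP.Defs
import Cfsg.Agent.H809.Evn.Cyc
import Cfsg.Agent.S2378
import Cfsg.Agent.S1064

/-!
# [REST-E7] of S4929 (helper142)

`E₇(q)`, `q` odd, `p` an odd prime with `ord_p(q) = 8, 9, 10, 12, 14, 18`: cyclic Sylow `p`-subgroups and a real element
of order `p`.
-/

set_option autoImplicit false

namespace Cfsg.Agent.H142.EP

open Cfsg Cfsg.Lie Cfsg.Lie.ChevalleyDatum Cfsg.Agent.H892.EP

universe u

/-- **Cyclic Sylow subgroups** -/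
theorem cyclic_E7 {F : Type u} [Field F] [Fintype F] {q : ℕ} (hq : Fintype.card F = q) {s : ℕ} (hs : s.Prime)
    (hsq : ¬ s ∣ q) (h : ∀ d ∈ [1, 2, 3, 4, 5, 6, 7], ¬ s ∣ q ^ d - 1) (hsG : s ∣ Nat.card ↥(chevE7.group F))
    (P : Sylow s ↥(chevE7.group F)) : IsCyclic (P : Subgroup ↥(chevE7.group F)) := by
  have hsf : Fact s.Prime := ⟨hs⟩
  have hq0 : 0 < q := by rw [← hq]; exact Fintype.card_pos
  set d := orderOf (q : ZMod s) with hd
  have hdvd : ∀ i : ℕ, s ∣ q ^ i - 1 ↔ d ∣ i := by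
    intro i
    rw [hd, orderOf_dvd_iff_pow_eq_one, ← ZMod.natCast_eq_zero_iff, Nat.cast_sub (Nat.one_le_pow _ _ hq0),
      Nat.cast_pow, Nat.cast_one, sub_eq_zero]
  have hds : d ∣ s - 1 := by
    rw [← hdvd]
    have h1 : (q : ZMod s) ^ (s - 1) = 1 := ZMod.pow_card_sub_one_eq_one (by
      rw [Ne, ZMod.natCast_eq_zero_iff]; exact hsq)
    rw [← ZMod.natCast_eq_zero_iff, Nat.cast_sub (Nat.one_le_pow _ _ hq0), Nat.cast_pow, h1, Nat.cast_one, sub_self]
  have hs1 : 0 < s - 1 := by have := hs.one_lt; omega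
  have hcard := Cfsg.Agent.S1064.result hq
  have hmem : d ∣ 2 ∨ d ∣ 6 ∨ d ∣ 8 ∨ d ∣ 10 ∨ d ∣ 12 ∨ d ∣ 14 ∨ d ∣ 18 := by
    have h1 : s ∣ q ^ 63 * (q ^ 2 - 1) * (q ^ 6 - 1) * (q ^ 8 - 1) * (q ^ 10 - 1) * (q ^ 12 - 1) * (q ^ 14 - 1) *
        (q ^ 18 - 1) := by rw [← hcard]; exact hsG.mul_left _
    simp only [hs.dvd_mul] at h1
    rcases h1 with (((((((h | h) | h) | h) | h) | h) | h) | h)
    · exact absurd (hs.dvd_of_dvd_pow h) hsq
    all_goals (rw [hdvd] at h; tauto)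
  have hd5 : d = 8 ∨ d = 9 ∨ d = 10 ∨ d = 12 ∨ d = 14 ∨ d = 18 := by
    have hle : d ≤ 18 := by
      rcases hmem with h | h | h | h | h | h | h <;> exact (Nat.le_of_dvd (by norm_num) h).trans (by norm_num)
    have hno : ∀ i ∈ [1, 2, 3, 4, 5, 6, 7], d ≠ i := fun i hi he => h i hi ((hdvd i).2 (by rw [he]))
    have h0 : d ≠ 0 := by
      intro h0
      rw [h0] at hds
      exact hs1.ne' (Nat.eq_zero_of_zero_dvd hds)
    simp only [List.mem_cons, List.not_mem_nil, or_false, forall_eq_or_imp, forall_eq] at hno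
    clear_value d
    interval_cases d <;> omega
  have hs11 : 9 ≤ s := by
    have h1 := Nat.le_of_dvd hs1 hds
    rcases hd5 with h | h | h | h | h | h <;> omega
  obtain ⟨e⟩ := Cfsg.Agent.S2378.result hq (chevE7, [2, 6, 8, 10, 12, 14, 18]) (by simp) s hsq (by
    intro h
    have h1 : s ∣ 2 ^ 10 * 3 ^ 4 * 5 * 7 := h.trans (by decide +kernel)
    simp only [hs.dvd_mul] at h1
    rcases h1 with ((h1 | h1) | h1) | h1
    · have := Nat.le_of_dvd (by norm_num) (hs.dvd_of_dvd_pow h1); omega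
    · have := Nat.le_of_dvd (by norm_num) (hs.dvd_of_dvd_pow h1); omega
    · have := Nat.le_of_dvd (by norm_num) h1; omega
    · have := Nat.le_of_dvd (by norm_num) h1; omega) hsG P
  have hlen : (List.filter (fun e => decide (orderOf (q : ZMod s) ∣ e)) [2, 6, 8, 10, 12, 14, 18]).length = 1 := by
    rw [← hd]
    rcases hd5 with h | h | h | h | h | h <;> rw [h] <;> decide
  have e' : ↥(P : Subgroup ↥(chevE7.group F)) ≃* (Fin 1 →
      Multiplicative (ZMod (s ^ padicValNat s ((Polynomial.cyclotomic (orderOf (q : ZMod s)) ℤ).eval (q : ℤ)).natAbs))) := by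
    rw [← hlen]
    exact e
  exact isCyclic_of_surjective ((MulEquiv.piUnique _).symm.trans e'.symm)
    ((MulEquiv.piUnique _).symm.trans e'.symm).surjective

/-- **[REST-E7]** `d = 8, 9, 10, 12, 14, 18` -/
theorem rest_e7 (F : Type) [Field F] [Fintype F] (ho : Odd (Fintype.card F)) (p : ℕ) [Fact p.Prime] (hp : p ≠ 2)
    (h0 : ¬ p ∣ Fintype.card F) (h : ∀ d ∈ [1, 2, 3, 4, 5, 6, 7], ¬ p ∣ Fintype.card F ^ d - 1)
    (hd : p ∣ Nat.card ↥(Lie.chevE7.group F)) : EvAt p ↥(Lie.chevE7.group F) := by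
  obtain ⟨z, hz, hr⟩ := TorRange.real_E7 rfl ho (Fact.out : p.Prime) hp h0 hd
  exact fun M hM => Cfsg.Agent.H809.Evn.exists_even_of_real_cyclic hM hp
    (fun P => cyclic_E7 rfl (Fact.out : p.Prime) h0 h hd P) z ⟨1, by rw [hz, pow_one]⟩
    (fun h => (Fact.out : p.Prime).one_lt.ne' (by rw [← hz, h, orderOf_one])) hr

end Cfsg.Agent.H142.EP
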