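import Cfsg.Agent.H892.EP.Defs
import Cfsg.Agent.H729.CharTwoBlock

/-!
S4929, [T4]: if `C_G(P)` is a `p`-group then the principal `p`-block contains all characters of degree prime to `p`.
-/

set_option autoImplicit false

open Cfsg Cfsg.Agent.Characters.Core Cfsg.Agent.H892.EP

namespace Cfsg.Agent.H142.EP

universe u

/-- the characters of degree prime to `p` are in the principal block -/
theorem mem_of_centralizer {G : Type u} [Group G] [Finite G] {p : ℕ} [Fact p.Prime] {M : Ideal AlgInt}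
    (hM : IsPModular p M) (P : Sylow p G)
    (hC : ∀ x ∈ Subgroup.centralizer ((P : Subgroup G) : Set G), ∃ k : ℕ, x ^ p ^ k = 1) (χ : IrrCharacter G)
    (hp : ¬ p ∣ charDegree (χ : G → ℂ)) : χ ∈ principalBlock M G := by
  have : M.IsPrime := hM.2.1.isPrime
  have hB : IsPBlock M (blockOf M (χ : G → ℂ)) := Blocks.Basic.isPBlock_blockOf χ
  obtain ⟨D, hD⟩ := H729.CharTwoBlock.exists_isDefectGroup hM hB
  have hDp : IsPGroup p D := H729.CharTwoBlock.isPGroup_of_isDefectGroup hD
  -- `D` is a Sylow subgroup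
  have h1 := S0908.result p M hM _ hB D hD
  have h2 : sInf ((fun χ : IrrCharacter G => (charDegree (χ : G → ℂ)).factorization p) ''
      (blockOf M (χ : G → ℂ))) ≤ (charDegree (χ : G → ℂ)).factorization p :=
    Nat.sInf_le ⟨χ, Blocks.Basic.mem_blockOf_self χ, rfl⟩
  rw [Nat.factorization_eq_zero_of_not_dvd hp] at h2
  have h3 : blockDefect p (blockOf M (χ : G → ℂ)) = (Nat.card G).factorization p := by
    unfold blockDefect
    omega
  rw [h3] at h1
  let Q : Sylow p G := Sylow.ofCard D h1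
  obtain ⟨g, hg⟩ := MulAction.exists_smul_eq G P Q
  have hCD : IsPGroup p (Subgroup.centralizer (D : Set G)) := by
    rintro ⟨x, hx⟩
    obtain ⟨k, hk⟩ := hC (g⁻¹ * x * g) (by
      rw [Subgroup.mem_centralizer_iff]
      intro y hy
      have h4 : g * y * g⁻¹ ∈ (Q : Subgroup G) := by
        rw [← hg, Sylow.coe_subgroup_smul]
        exact Subgroup.smul_mem_pointwise_smul y (MulAut.conj g) _ hy
      have h5 := Subgroup.mem_centralizer_iff.1 hx (g * y * g⁻¹) h4
      calc y * (g⁻¹ * x * g) = g⁻¹ * (g * y * g⁻¹ * x) * g := by group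
        _ = g⁻¹ * (x * (g * y * g⁻¹)) * g := by rw [h5]
        _ = g⁻¹ * x * g * y := by group)
    refine ⟨k, Subtype.ext ?_⟩
    change x ^ p ^ k = 1
    have h6 : x = g * (g⁻¹ * x * g) * g⁻¹ := by group
    rw [h6, conj_pow, hk]
    group
  have h4 := H729.CharTwoBlock.eq_principal_of_centralizer hM hB hD hCD
  rw [← h4]
  exact Blocks.Basic.mem_blockOf_self χ

/-- **[T4]** -/
theorem evAt_of_centralizer {G : Type u} [Group G] [Finite G] {p : ℕ} [Fact p.Prime] (P : Sylow p G)
    (hC : ∀ x ∈ Subgroup.centralizer ((P : Subgroup G) : Set G), ∃ k : ℕ, x ^ p ^ k = 1) (χ : IrrCharacter G)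
    (h2 : 2 ∣ charDegree (χ : G → ℂ)) (hp : ¬ p ∣ charDegree (χ : G → ℂ)) : EvAt p G :=
  fun _ hM => ⟨χ, mem_of_centralizer hM P hC χ hp, h2⟩

end Cfsg.Agent.H142.EP
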